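import Cfsg.Agent.BNPairs.Parabolic

/-!
The simplicity criterion for Tits systems.
-/

set_option autoImplicit false
set_option linter.unusedSectionVars false
set_option linter.unusedSimpArgs false
set_option linter.style.haveILetI false

namespace CfsgLib.BNPairs

open scoped commutatorElement

variable {G : Type*} [Group G] {P : Cfsg.BNPair G}

theorem len_inv_le {n : G} (hn : n ∈ P.N) : len P n⁻¹ ≤ len P n := by
  obtain ⟨l, hl, hk⟩ := exists_reduced hn
  rw [← hk, ← List.length_reverse]
  refine len_le ⟨fun z hz => hl.1 z (List.mem_reverse.1 hz), ?_⟩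
  refine rel_trans (rel_prod_reverse hl.1) ?_
  have := P.conj_mem l.prod (prod_mem_N hl.1) (l.prod⁻¹ * n)
    (Subgroup.mem_inf.2 ⟨hl.2, mul_mem (inv_mem (prod_mem_N hl.1)) hn⟩)
  rw [show l.prod⁻¹⁻¹ * n⁻¹ = (l.prod * (l.prod⁻¹ * n) * l.prod⁻¹)⁻¹ by group]
  exact inv_mem this

theorem len_inv {n : G} (hn : n ∈ P.N) : len P n⁻¹ = len P n := by
  refine le_antisymm (len_inv_le hn) ?_
  simpa using len_inv_le (inv_mem hn)

/-- For a normal subgroup `N₀` with `N₀ ⊔ B = P_J`, letters inside and outside `J` commute modulo `B`. -/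
theorem commute_of_normal {N₀ : Subgroup G} [N₀.Normal] {J : Set G} (hJ : J ⊆ P.S)
    (hN : N₀ ⊔ P.B = P.parabolic J) {s t : G} (hs : s ∈ J) (ht : t ∈ P.S) (htJ : t ∉ J) :
    s * t * s⁻¹ * t⁻¹ ∈ P.B := by
  have hsS := hJ hs
  have hsN := P.subset hsS
  have htN := P.subset ht
  have hne : ¬ (s⁻¹ * t ∈ P.B) := fun h => htJ (P.inj s hsS t ht h ▸ hs)
  have hts : len P (t * s) = 2 := by
    have h1 := len_smul_ne ht hsN
    have h2 := len_smul_le ht hsN
    rw [len_of_mem_S hsS] at h1 h2
    have h3 : len P (t * s) ≠ 0 := by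
      intro h
      have hB := (len_eq_zero (mul_mem htN hsN)).1 h
      refine hne ?_
      have e : s⁻¹ * t⁻¹ ∈ P.B := by simpa using inv_mem hB
      have := mul_mem e (P.sq_mem t ht)
      simpa [mul_assoc] using this
    omega
  -- an element of `N₀` in the cell of `s`
  have hsP : s ∈ N₀ ⊔ P.B := hN ▸ Subgroup.mem_sup_right (Subgroup.subset_closure hs)
  obtain ⟨x, hx, b, hb, e⟩ := Subgroup.mem_sup_of_normal_left.1 hsP
  have hxs : x ∈ cell P s := mem_cell.2 ⟨1, one_mem _, b⁻¹, inv_mem hb, by rw [one_mul, ← e]; group⟩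
  have hconjN : t * x * t ∈ P.parabolic J := by
    rw [← hN, show t * x * t = (t * x * t⁻¹) * (t * t) by group]
    exact Subgroup.mul_mem_sup (‹N₀.Normal›.conj_mem x hx t) (P.sq_mem t ht)
  have htst : len P (t * s * t) ≤ 2 := by
    by_contra hlen
    push Not at hlen
    obtain ⟨c, hc, c', hc', rfl⟩ := mem_cell.1 hxs
    have h1 : t * c * s ∈ cell P (t * s) :=
      cell_mul_of_le ht hsN hc (by rw [hts, len_of_mem_S hsS]; omega)
    obtain ⟨d, hd, d', hd', e'⟩ := mem_cell.1 h1
    have h2 : t * (c' * t) ∈ cell P (t * t) ∪ cell P t :=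
      left_mul_cell ht htN (mem_cell_left hc' (self_mem_cell t))
    -- cells of `t * s` times `B` times `t`
    have h3 : t * c * s * c' * t ∈ cell P (t * s * t) ∪ cell P (t * s) :=
      right_mul_cell ht (mul_mem htN hsN) (mem_cell_right hc' h1)
    have e3 : t * (c * s * c') * t = t * c * s * c' * t := by group
    rw [e3] at hconjN
    have hmemP : ∀ n ∈ P.N, t * c * s * c' * t ∈ cell P n → n ∈ P.parabolic J := by
      intro n hn h
      obtain ⟨u, hu, u', hu', e4⟩ := mem_cell.1 h
      rw [show n = u⁻¹ * (t * c * s * c' * t) * u'⁻¹ by rw [e4]; group]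
      exact mul_mem (mul_mem (inv_mem (Subgroup.mem_sup_left hu)) hconjN)
        (inv_mem (Subgroup.mem_sup_left hu'))
    have htP : t ∈ P.parabolic J := by
      rcases h3 with h3 | h3
      · have hword : ∀ z ∈ [t, s, t], z ∈ P.S := by simp [ht, hsS]
        refine mem_of_reduced_word (M := P.parabolic J) le_sup_left [t, s, t] hword ?_ ?_ t (by simp)
        · have hle := len_le (isWordIn_prod (P := P) hword)
          simp [mul_assoc] at hle ⊢
          simp [mul_assoc] at hlen
          omega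
        · simpa [mul_assoc] using hmemP _ (mul_mem (mul_mem htN hsN) htN) h3
      · have := hmemP _ (mul_mem htN hsN) h3
        have hsP' : s ∈ P.parabolic J := Subgroup.mem_sup_right (Subgroup.subset_closure hs)
        simpa using mul_mem this (inv_mem hsP')
    have : t ∈ P.S ∩ (P.parabolic J : Set G) := ⟨ht, htP⟩
    rw [S_inter_parabolic hJ] at this
    exact htJ this
  -- so `t s t` is congruent to `s`
  have hlist : ∀ x ∈ [t, s, t], x ∈ P.S := by simp [ht, hsS]
  obtain ⟨l', hsub, hrel, hlen⟩ := exists_reduced_sublist [t, s, t] hlist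
  simp only [List.prod_cons, List.prod_nil, mul_one] at hrel hlen
  rw [← mul_assoc] at hrel hlen
  have hlt : l'.length ≤ 2 := hlen ▸ htst
  have hodd : len P (t * s * t) = 1 := by
    have h1 := le_len_mul_s ht (mul_mem htN hsN)
    have h2 : len P (t * s * t) ≠ len P (t * s) := by
      intro h
      have hn := mul_mem htN hsN
      have e1 : len P (t * s * t) = len P ((t * s * t)⁻¹) := (len_inv (mul_mem hn htN)).symm
      have e2 : len P ((t * s)⁻¹) = len P (t * s) := len_inv hn
      have e3 : len P (t * (t * s)⁻¹) = len P ((t * s * t)⁻¹) := by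
        refine len_eq_of_rel (inv_mem (mul_mem hn htN)) (mul_mem htN (inv_mem hn)) ?_
        have := P.conj_mem (t * s) hn (t * t)
          (Subgroup.mem_inf.2 ⟨P.sq_mem t ht, mul_mem htN htN⟩)
        rw [show (t * s * t)⁻¹⁻¹ * (t * (t * s)⁻¹) = t * s * (t * t) * (t * s)⁻¹ by group]
        exact this
      exact len_smul_ne ht (inv_mem hn) (by omega)
    omega
  rw [hodd] at hlen
  obtain ⟨z, rfl⟩ := List.length_eq_one_iff.1 hlen.symm
  rw [List.prod_singleton] at hrel
  have hz : z = t ∨ z = s := by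
    have := hsub.subset List.mem_cons_self
    simp at this; tauto
  rcases hz with rfl | rfl
  · exfalso
    -- `t s t ≡ t` gives `s t ∈ B`
    have h1 : s * z ∈ P.B := by simpa [mul_assoc] using hrel
    refine hne ?_
    have := mul_mem (inv_mem (P.sq_mem s hsS)) h1
    simpa [mul_assoc] using this
  · -- `t z t ≡ z`
    have h1 : z⁻¹ * (t * z * t) ∈ P.B := by simpa [mul_assoc] using hrel
    have h4 := P.conj_mem z hsN _
      (Subgroup.mem_inf.2 ⟨h1, mul_mem (inv_mem hsN) (mul_mem (mul_mem htN hsN) htN)⟩)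
    rw [show z * (z⁻¹ * (t * z * t)) * z⁻¹ = (t * t) * (t⁻¹ * z * t * z⁻¹) by group] at h4
    have h5 : t⁻¹ * z * t * z⁻¹ ∈ P.B := by
      simpa [mul_assoc] using mul_mem (inv_mem (P.sq_mem t ht)) h4
    have h6 := P.conj_mem t htN _ (Subgroup.mem_inf.2
      ⟨h5, mul_mem (mul_mem (mul_mem (inv_mem htN) hsN) htN) (inv_mem hsN)⟩)
    rwa [show t * (t⁻¹ * z * t * z⁻¹) * t⁻¹ = z * t * z⁻¹ * t⁻¹ by group] at h6

/-- Simplicity criterion. -/
theorem isSimpleGroup_of_bnPair [Nontrivial G] (hirr : P.Irreducible)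
    (hsolv : Group.IsSolvable P.B) (hperf : commutator G = ⊤) (hcore : P.B.normalCore = ⊥) :
    IsSimpleGroup G := by
  refine ⟨fun N₀ hN => ?_⟩
  set J := P.S ∩ ((N₀ ⊔ P.B : Subgroup G) : Set G) with hJ
  have heq : N₀ ⊔ P.B = P.parabolic J := eq_parabolic le_sup_right
  rcases J.eq_empty_or_nonempty with hJe | hJne
  · left
    have hle : N₀ ≤ P.B := by
      calc N₀ ≤ P.parabolic J := heq ▸ le_sup_left
        _ = P.B := by rw [hJe]; simp [Cfsg.BNPair.parabolic]
    have : N₀ ≤ P.B.normalCore := fun x hx g => hle (hN.conj_mem x hx g)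
    rw [hcore] at this
    exact le_bot_iff.1 this
  rcases (P.S \ J).eq_empty_or_nonempty with hJc | hJc
  · right
    have hall : J = P.S := Set.Subset.antisymm Set.inter_subset_left (Set.sdiff_eq_empty.1 hJc)
    have htop : N₀ ⊔ P.B = ⊤ := by rw [heq, hall, parabolic_S_eq_top]
    by_contra hne
    let f : P.B →* G ⧸ N₀ := (QuotientGroup.mk' N₀).comp P.B.subtype
    have hf : Function.Surjective f := by
      intro x
      obtain ⟨g, rfl⟩ := QuotientGroup.mk_surjective x
      obtain ⟨n, hn, b, hb, rfl⟩ := Subgroup.mem_sup_of_normal_left.1 (htop ▸ Subgroup.mem_top g)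
      refine ⟨⟨b, hb⟩, ?_⟩
      show (QuotientGroup.mk b : G ⧸ N₀) = QuotientGroup.mk (n * b)
      rw [QuotientGroup.mk_mul, (QuotientGroup.eq_one_iff n).2 hn, one_mul]
    haveI := hsolv
    haveI : Group.IsSolvable (G ⧸ N₀) := Group.isSolvable_of_surjective hf
    haveI : Nontrivial (G ⧸ N₀) := QuotientGroup.nontrivial_iff.2 hne
    refine (Group.IsSolvable.commutator_lt_top_of_nontrivial (G ⧸ N₀)).ne ?_
    rw [commutator_def, ← Subgroup.map_top_of_surjective (QuotientGroup.mk' N₀)
      (QuotientGroup.mk'_surjective N₀), ← Subgroup.map_commutator, ← commutator_def, hperf]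
  · exfalso
    obtain ⟨s, hs, t, ht, hc⟩ := hirr J Set.inter_subset_left hJne hJc
    exact hc (commute_of_normal Set.inter_subset_left heq hs ht.1 ht.2)

end CfsgLib.BNPairs
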