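import Cfsg.Prelude.Def_LieExceptional

/-!
Tits systems (`Cfsg.BNPair`): Bruhat decomposition, length, exchange condition.

Everything is phrased on representatives in `N`; `P.Rel n n'` is written out as `n⁻¹ * n' ∈ P.B`.
Main results: `bruhat`, `bruhat_parabolic`, `rel_of_cell_eq`, `cell_mul_of_le` (reduced products),
`exists_descent_elt`, `len_mul_ne`, `exchange`, `exists_reduced_sublist`.
-/

set_option autoImplicit false
set_option linter.unusedSectionVars false

namespace CfsgLib.BNPairs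

variable {G : Type*} [Group G] (P : Cfsg.BNPair G)

/-- The Bruhat cell `B n B`. -/
def cell (n : G) : Set G := DoubleCoset.doubleCoset n (P.B : Set G) P.B

variable {P}

theorem mem_cell {g n : G} : g ∈ cell P n ↔ ∃ b ∈ P.B, ∃ b' ∈ P.B, g = b * n * b' :=
  DoubleCoset.mem_doubleCoset

theorem self_mem_cell (n : G) : n ∈ cell P n :=
  mem_cell.2 ⟨1, one_mem _, 1, one_mem _, by simp⟩

theorem cell_eq_of_mem {g n : G} (h : g ∈ cell P n) : cell P g = cell P n :=
  DoubleCoset.doubleCoset_eq_of_mem h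

theorem cell_eq_of_rel {n n' : G} (h : n⁻¹ * n' ∈ P.B) : cell P n' = cell P n :=
  cell_eq_of_mem (mem_cell.2 ⟨1, one_mem _, n⁻¹ * n', h, by group⟩)

theorem mul_mem_cell {g n b b' : G} (hb : b ∈ P.B) (hb' : b' ∈ P.B) (h : g ∈ cell P n) :
    b * g * b' ∈ cell P n := by
  obtain ⟨c, hc, c', hc', rfl⟩ := mem_cell.1 h
  exact mem_cell.2 ⟨b * c, mul_mem hb hc, c' * b', mul_mem hc' hb', by group⟩

theorem mem_cell_left {g n b : G} (hb : b ∈ P.B) (h : g ∈ cell P n) : b * g ∈ cell P n := by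
  simpa using mul_mem_cell hb (one_mem _) h

theorem mem_cell_right {g n b : G} (hb : b ∈ P.B) (h : g ∈ cell P n) : g * b ∈ cell P n := by
  simpa using mul_mem_cell (one_mem _) hb h

theorem inv_mem_cell {g n : G} (h : g ∈ cell P n) : g⁻¹ ∈ cell P n⁻¹ := by
  obtain ⟨b, hb, b', hb', rfl⟩ := mem_cell.1 h
  exact mem_cell.2 ⟨b'⁻¹, inv_mem hb', b⁻¹, inv_mem hb, by group⟩

theorem mem_B_of_mem_cell {g n : G} (hn : n ∈ P.B) (h : g ∈ cell P n) : g ∈ P.B := by
  obtain ⟨b, hb, b', hb', rfl⟩ := mem_cell.1 h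
  exact mul_mem (mul_mem hb hn) hb'

theorem mem_N_of_mem_S {s : G} (hs : s ∈ P.S) : s ∈ P.N := P.subset hs

/-! ### the congruence modulo `B ⊓ N` -/

theorem rel_refl (n : G) : n⁻¹ * n ∈ P.B := by simp

theorem rel_symm {n n' : G} (h : n⁻¹ * n' ∈ P.B) : n'⁻¹ * n ∈ P.B := by
  simpa [mul_inv_rev] using inv_mem h

theorem rel_trans {a b c : G} (h : a⁻¹ * b ∈ P.B) (h' : b⁻¹ * c ∈ P.B) : a⁻¹ * c ∈ P.B := by
  simpa [mul_assoc] using mul_mem h h'

theorem rel_mul_left {a b : G} (c : G) (h : a⁻¹ * b ∈ P.B) : (c * a)⁻¹ * (c * b) ∈ P.B := by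
  simpa [mul_assoc] using h

theorem rel_mul_right {a b c : G} (ha : a ∈ P.N) (hb : b ∈ P.N) (hc : c ∈ P.N)
    (h : a⁻¹ * b ∈ P.B) : (a * c)⁻¹ * (b * c) ∈ P.B := by
  have := P.conj_mem c⁻¹ (inv_mem hc) (a⁻¹ * b) (Subgroup.mem_inf.2 ⟨h, mul_mem (inv_mem ha) hb⟩)
  simpa [mul_assoc] using this

theorem rel_sq_mul {s n : G} (hs : s ∈ P.S) (hn : n ∈ P.N) : n⁻¹ * (s * (s * n)) ∈ P.B := by
  have h : (1 : G)⁻¹ * (s * s) ∈ P.B := by simpa using P.sq_mem s hs
  simpa [mul_assoc] using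
    rel_mul_right (one_mem _) (mul_mem (P.subset hs) (P.subset hs)) hn h

theorem rel_mul_sq {s n : G} (hs : s ∈ P.S) : n⁻¹ * (n * s * s) ∈ P.B := by
  simpa [mul_assoc] using P.sq_mem s hs

theorem rel_inv_self {s : G} (hs : s ∈ P.S) : s⁻¹⁻¹ * s ∈ P.B := by
  simpa using P.sq_mem s hs

/-! ### multiplication of cells -/

theorem left_mul_cell {s n g : G} (hs : s ∈ P.S) (hn : n ∈ P.N) (h : g ∈ cell P n) :
    s * g ∈ cell P (s * n) ∪ cell P n := by
  obtain ⟨b, hb, b', hb', rfl⟩ := mem_cell.1 h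
  rw [show s * (b * n * b') = (s * b * n) * b' by group]
  rcases P.mul_mem_union s hs n hn b hb with h | h
  · exact Or.inl (mem_cell_right hb' h)
  · exact Or.inr (mem_cell_right hb' h)

theorem right_mul_cell {s n g : G} (hs : s ∈ P.S) (hn : n ∈ P.N) (h : g ∈ cell P n) :
    g * s ∈ cell P (n * s) ∪ cell P n := by
  have hsN := P.subset hs
  have h1 := left_mul_cell hs (inv_mem hn) (mem_cell_left (inv_mem (P.sq_mem s hs)) (inv_mem_cell h))
  have e : s * ((s * s)⁻¹ * g⁻¹) = (g * s)⁻¹ := by group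
  rw [e] at h1
  rcases h1 with h1 | h1
  · left
    have h2 := inv_mem_cell h1
    rw [inv_inv] at h2
    rw [cell_eq_of_rel (n := (s * n⁻¹)⁻¹) (n' := n * s) ?_]
    · exact h2
    · rw [inv_inv, mul_assoc, inv_mul_cancel_left]
      exact P.sq_mem s hs
  · right
    simpa using inv_mem_cell h1

theorem not_mem_B_of_mem_S {s : G} (hs : s ∈ P.S) : s ∉ P.B := by
  intro h
  refine P.conj_ne s hs (Set.Subset.antisymm ?_ fun b hb => ?_)
  · rintro _ ⟨b, hb, rfl⟩; exact mul_mem (mul_mem h hb) h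
  · exact ⟨s⁻¹ * b * s⁻¹, mul_mem (mul_mem (inv_mem h) hb) (inv_mem h), by group⟩

/-- Some `s b s` lies outside `B`. -/
theorem exists_conj_not_mem {s : G} (hs : s ∈ P.S) : ∃ b ∈ P.B, s * b * s ∉ P.B := by
  by_contra hn
  push Not at hn
  refine P.conj_ne s hs (Set.Subset.antisymm ?_ fun b hb => ?_)
  · rintro _ ⟨b, hb, rfl⟩; exact hn b hb
  · refine ⟨s⁻¹ * b * s⁻¹, ?_, by group⟩
    rw [show s⁻¹ * b * s⁻¹ = (s * s)⁻¹ * (s * b * s) * (s * s)⁻¹ by group]
    exact mul_mem (mul_mem (inv_mem (P.sq_mem s hs)) (hn b hb)) (inv_mem (P.sq_mem s hs))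

theorem exists_conj_mem_cell {s : G} (hs : s ∈ P.S) : ∃ b ∈ P.B, s * b * s ∈ cell P s := by
  obtain ⟨b, hb, h⟩ := exists_conj_not_mem hs
  refine ⟨b, hb, ?_⟩
  rcases P.mul_mem_union s hs s (P.subset hs) b hb with h' | h'
  · exact absurd (mem_B_of_mem_cell (P.sq_mem s hs) h') h
  · exact h'

/-! ### Bruhat decomposition -/

/-- The union of the cells of the elements of `H`. -/
theorem exists_mem_cell_of_le {H : Subgroup G} {J : Set G} (hJ : J ⊆ P.S) (hHN : H ≤ P.N)
    (hJH : J ⊆ (H : Set G)) {g : G} (hg : g ∈ P.B ⊔ Subgroup.closure J) :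
    ∃ n ∈ H, g ∈ cell P n := by
  let U : Set G := {y | ∃ n ∈ H, y ∈ cell P n}
  let X : Subgroup G :=
    { carrier := {g | ∀ y ∈ U, g * y ∈ U ∧ g⁻¹ * y ∈ U}
      one_mem' := fun y hy => by simpa using hy
      mul_mem' := fun {a b} ha hb y hy =>
        ⟨by rw [mul_assoc]; exact (ha _ (hb y hy).1).1,
         by rw [mul_inv_rev, mul_assoc]; exact (hb _ (ha y hy).2).2⟩
      inv_mem' := fun {a} ha y hy => ⟨(ha y hy).2, by rw [inv_inv]; exact (ha y hy).1⟩ }
  have hB : P.B ≤ X := by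
    rintro b hb y ⟨n, hn, hy⟩
    exact ⟨⟨n, hn, mem_cell_left hb hy⟩, ⟨n, hn, mem_cell_left (inv_mem hb) hy⟩⟩
  have hmul : ∀ s ∈ J, ∀ y ∈ U, s * y ∈ U := by
    rintro s hs y ⟨n, hn, hy⟩
    rcases left_mul_cell (hJ hs) (hHN hn) hy with h | h
    · exact ⟨s * n, mul_mem (hJH hs) hn, h⟩
    · exact ⟨n, hn, h⟩
  have hS : J ⊆ (X : Set G) := by
    intro s hs y hy
    refine ⟨hmul s hs y hy, ?_⟩
    rw [show s⁻¹ * y = s * ((s * s)⁻¹ * y) by group]
    obtain ⟨n, hn, hy'⟩ := hy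
    exact hmul s hs _ ⟨n, hn, mem_cell_left (inv_mem (P.sq_mem s (hJ hs))) hy'⟩
  have := (sup_le hB ((Subgroup.closure_le X).2 hS) hg) 1 ⟨1, one_mem _, self_mem_cell 1⟩
  simpa [U] using this.1

theorem closure_le_N {J : Set G} (hJ : J ⊆ P.S) : Subgroup.closure J ≤ P.N :=
  (Subgroup.closure_le _).2 (hJ.trans P.subset)

theorem parabolic_S_eq_top : P.parabolic P.S = ⊤ := by
  refine eq_top_iff.2 ?_
  rw [← P.sup_eq_top]
  refine sup_le le_sup_left ?_
  rw [← P.closure_sup]
  exact sup_le le_sup_right (inf_le_left.trans le_sup_left)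

/-- Bruhat decomposition. -/
theorem bruhat (g : G) : ∃ n ∈ P.N, g ∈ cell P n :=
  exists_mem_cell_of_le (J := P.S) subset_rfl le_rfl P.subset (by
    have : g ∈ P.parabolic P.S := by rw [parabolic_S_eq_top]; exact Subgroup.mem_top g
    exact this)

/-- Bruhat decomposition of a parabolic subgroup. -/
theorem bruhat_parabolic {J : Set G} (hJ : J ⊆ P.S) (g : G) :
    g ∈ P.parabolic J ↔ ∃ n ∈ Subgroup.closure J, g ∈ cell P n := by
  refine ⟨fun h => exists_mem_cell_of_le hJ (closure_le_N hJ) Subgroup.subset_closure h, ?_⟩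
  rintro ⟨n, hn, h⟩
  obtain ⟨b, hb, b', hb', rfl⟩ := mem_cell.1 h
  exact mul_mem (mul_mem (Subgroup.mem_sup_left hb) (Subgroup.mem_sup_right hn))
    (Subgroup.mem_sup_left hb')

/-! ### words and length -/

/-- `l` is a word in the letters `J` representing `n` modulo `B ⊓ N`. -/
def IsWordIn (P : Cfsg.BNPair G) (J : Set G) (n : G) (l : List G) : Prop :=
  (∀ s ∈ l, s ∈ J) ∧ (List.prod l)⁻¹ * n ∈ P.B

theorem prod_mem_N {l : List G} (h : ∀ s ∈ l, s ∈ P.S) : l.prod ∈ P.N :=
  list_prod_mem fun s hs => P.subset (h s hs)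

theorem prod_mem_closure {J : Set G} {l : List G} (h : ∀ s ∈ l, s ∈ J) :
    l.prod ∈ Subgroup.closure J :=
  list_prod_mem fun s hs => Subgroup.subset_closure (h s hs)

theorem rel_prod_append {l l' : List G} {n n' : G} (hl : ∀ s ∈ l, s ∈ P.S) (hn : n ∈ P.N)
    (hl' : ∀ s ∈ l', s ∈ P.S) (h : l.prod⁻¹ * n ∈ P.B) (h' : l'.prod⁻¹ * n' ∈ P.B) :
    (l ++ l').prod⁻¹ * (n * n') ∈ P.B := by
  rw [List.prod_append]
  exact rel_trans (rel_mul_right (prod_mem_N hl) hn (prod_mem_N hl') h) (rel_mul_left n h')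

theorem rel_prod_reverse {l : List G} (hl : ∀ s ∈ l, s ∈ P.S) :
    l.reverse.prod⁻¹ * (l.prod)⁻¹ ∈ P.B := by
  induction l with
  | nil => simp
  | cons s l ih =>
    simp only [List.mem_cons, forall_eq_or_imp] at hl
    rw [List.reverse_cons, List.prod_cons, mul_inv_rev]
    refine rel_prod_append (l := l.reverse) (l' := [s]) (fun x hx => hl.2 x (List.mem_reverse.1 hx))
      (inv_mem (prod_mem_N hl.2)) (by simpa using hl.1) (ih hl.2) ?_
    simpa [mul_inv_rev] using inv_mem (P.sq_mem s hl.1)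

theorem exists_word_in {J : Set G} (hJ : J ⊆ P.S) {n : G} (hn : n ∈ Subgroup.closure J) :
    ∃ l, IsWordIn P J n l := by
  induction hn using Subgroup.closure_induction with
  | mem x hx => exact ⟨[x], by simpa using hx, by simp⟩
  | one => exact ⟨[], by simp, by simp⟩
  | mul x y hx hy ihx ihy =>
    obtain ⟨l, hl, hl'⟩ := ihx
    obtain ⟨k, hk, hk'⟩ := ihy
    refine ⟨l ++ k, fun s hs => (List.mem_append.1 hs).elim (hl s) (hk s), ?_⟩
    exact rel_prod_append (fun s hs => hJ (hl s hs)) (closure_le_N hJ hx) (fun s hs => hJ (hk s hs)) hl' hk'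
  | inv x hx ihx =>
    obtain ⟨l, hl, hl'⟩ := ihx
    refine ⟨l.reverse, fun s hs => hl s (List.mem_reverse.1 hs), ?_⟩
    refine rel_trans (rel_prod_reverse fun s hs => hJ (hl s hs)) ?_
    have hlN : l.prod ∈ P.N := prod_mem_N fun s hs => hJ (hl s hs)
    have := P.conj_mem l.prod hlN (l.prod⁻¹ * x) (Subgroup.mem_inf.2 ⟨hl', mul_mem (inv_mem hlN) (closure_le_N hJ hx)⟩)
    rw [show l.prod⁻¹⁻¹ * x⁻¹ = (l.prod * (l.prod⁻¹ * x) * l.prod⁻¹)⁻¹ by group]
    exact inv_mem this

theorem exists_word {n : G} (hn : n ∈ P.N) : ∃ l, IsWordIn P P.S n l := by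
  rw [← P.closure_sup] at hn
  have : P.N ≤ Subgroup.normalizer ((P.B ⊓ P.N : Subgroup G) : Set G) := by
    intro c hc
    rw [Subgroup.mem_normalizer_iff]
    intro h
    refine ⟨fun hh => Subgroup.mem_inf.2
      ⟨P.conj_mem c hc h hh, mul_mem (mul_mem hc (Subgroup.mem_inf.1 hh).2) (inv_mem hc)⟩, fun hh => ?_⟩
    have hN : h ∈ P.N := by
      have h3 := mul_mem (mul_mem (inv_mem hc) (Subgroup.mem_inf.1 hh).2) hc
      rwa [show c⁻¹ * (c * h * c⁻¹) * c = h by group] at h3
    refine Subgroup.mem_inf.2 ⟨?_, hN⟩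
    have h2 := P.conj_mem c⁻¹ (inv_mem hc) _ hh
    rwa [show c⁻¹ * (c * h * c⁻¹) * c⁻¹⁻¹ = h by group] at h2
  rw [← SetLike.mem_coe, Subgroup.coe_mul_of_left_le_normalizer_right _ _
    ((closure_le_N subset_rfl).trans this)] at hn
  obtain ⟨y, hy, z, hz, rfl⟩ := hn
  obtain ⟨l, hl, hl'⟩ := exists_word_in subset_rfl hy
  refine ⟨l, hl, ?_⟩
  rw [← mul_assoc]
  exact mul_mem hl' hz.1

/-- The length of `n ∈ N` in the Weyl group. -/
noncomputable def len (P : Cfsg.BNPair G) (n : G) : ℕ :=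
  sInf {k | ∃ l, IsWordIn P P.S n l ∧ l.length = k}

theorem len_le {n : G} {l : List G} (h : IsWordIn P P.S n l) : len P n ≤ l.length :=
  Nat.sInf_le ⟨l, h, rfl⟩

theorem exists_reduced {n : G} (hn : n ∈ P.N) : ∃ l, IsWordIn P P.S n l ∧ l.length = len P n :=
  Nat.sInf_mem (s := {k | ∃ l, IsWordIn P P.S n l ∧ l.length = k})
    (let ⟨l, hl⟩ := exists_word hn; ⟨_, l, hl, rfl⟩)

theorem isWordIn_of_rel {n n' : G} {J : Set G} {l : List G} (h : n⁻¹ * n' ∈ P.B)
    (hl : IsWordIn P J n l) : IsWordIn P J n' l := ⟨hl.1, rel_trans hl.2 h⟩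

theorem len_eq_of_rel {n n' : G} (hn : n ∈ P.N) (hn' : n' ∈ P.N) (h : n⁻¹ * n' ∈ P.B) :
    len P n' = len P n := by
  apply le_antisymm
  · obtain ⟨l, hl, hk⟩ := exists_reduced hn
    exact hk ▸ len_le (isWordIn_of_rel h hl)
  · obtain ⟨l, hl, hk⟩ := exists_reduced hn'
    exact hk ▸ len_le (isWordIn_of_rel (rel_symm h) hl)

theorem len_eq_zero {n : G} (hn : n ∈ P.N) : len P n = 0 ↔ n ∈ P.B := by
  constructor
  · intro h
    obtain ⟨l, hl, hk⟩ := exists_reduced hn
    rw [h, List.length_eq_zero_iff] at hk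
    subst hk
    simpa using hl.2
  · intro h
    exact Nat.le_zero.1 (len_le (l := []) ⟨by simp, by simpa using h⟩)

theorem isWordIn_prod {J : Set G} {l : List G} (h : ∀ s ∈ l, s ∈ J) : IsWordIn P J l.prod l :=
  ⟨h, rel_refl _⟩

theorem len_smul_le {s n : G} (hs : s ∈ P.S) (hn : n ∈ P.N) : len P (s * n) ≤ len P n + 1 := by
  obtain ⟨l, hl, hk⟩ := exists_reduced hn
  rw [← hk, ← List.length_cons (a := s)]
  exact len_le ⟨fun x hx => (List.mem_cons.1 hx).elim (fun e => e ▸ hs) (hl.1 x),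
    by rw [List.prod_cons]; exact rel_mul_left s hl.2⟩

theorem len_mul_s_le {s n : G} (hs : s ∈ P.S) (hn : n ∈ P.N) : len P (n * s) ≤ len P n + 1 := by
  obtain ⟨l, hl, hk⟩ := exists_reduced hn
  rw [← hk, show l.length + 1 = (l ++ [s]).length by simp]
  refine len_le ⟨fun x hx => (List.mem_append.1 hx).elim (hl.1 x) (fun e => ?_), ?_⟩
  · rw [List.mem_singleton] at e; exact e ▸ hs
  · rw [List.prod_append, List.prod_singleton]
    exact rel_mul_right (prod_mem_N hl.1) hn (P.subset hs) hl.2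

theorem le_len_smul {s n : G} (hs : s ∈ P.S) (hn : n ∈ P.N) : len P n ≤ len P (s * n) + 1 := by
  have hsn := mul_mem (P.subset hs) hn
  have := len_smul_le hs hsn
  rwa [len_eq_of_rel hn (mul_mem (P.subset hs) hsn) (rel_sq_mul hs hn)] at this

theorem le_len_mul_s {s n : G} (hs : s ∈ P.S) (hn : n ∈ P.N) : len P n ≤ len P (n * s) + 1 := by
  have hns := mul_mem hn (P.subset hs)
  have := len_mul_s_le hs hns
  rwa [len_eq_of_rel hn (mul_mem hns (P.subset hs)) (rel_mul_sq hs)] at this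

/-- A reduced word can be split at its first letter. -/
theorem exists_left_factor {n : G} (hn : n ∈ P.N) {k : ℕ} (hk : len P n = k + 1) :
    ∃ s ∈ P.S, ∃ n₁ ∈ P.N, len P n₁ = k ∧ (s * n₁)⁻¹ * n ∈ P.B := by
  obtain ⟨l, hl, hlk⟩ := exists_reduced hn
  rcases l with _ | ⟨s, t⟩
  · simp at hlk; omega
  have hs : s ∈ P.S := hl.1 s List.mem_cons_self
  have ht : ∀ x ∈ t, x ∈ P.S := fun x hx => hl.1 x (List.mem_cons_of_mem _ hx)
  have hrel := hl.2
  rw [List.prod_cons] at hrel
  refine ⟨s, hs, t.prod, prod_mem_N ht, ?_, hrel⟩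
  have h1 := len_smul_le hs (prod_mem_N ht)
  rw [← len_eq_of_rel (mul_mem (P.subset hs) (prod_mem_N ht)) hn hrel] at h1
  have h2 := len_le (isWordIn_prod (P := P) ht)
  simp at hlk
  omega

/-- A reduced word can be split at its last letter. -/
theorem exists_right_factor {n : G} (hn : n ∈ P.N) {k : ℕ} (hk : len P n = k + 1) :
    ∃ s ∈ P.S, ∃ n₁ ∈ P.N, len P n₁ = k ∧ (n₁ * s)⁻¹ * n ∈ P.B := by
  obtain ⟨l, hl, hlk⟩ := exists_reduced hn
  rcases List.eq_nil_or_concat' l with rfl | ⟨t, s, rfl⟩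
  · simp at hlk; omega
  have hs : s ∈ P.S := hl.1 s (by simp)
  have ht : ∀ x ∈ t, x ∈ P.S := fun x hx => hl.1 x (List.mem_append_left _ hx)
  have hrel := hl.2
  rw [List.prod_append, List.prod_singleton] at hrel
  refine ⟨s, hs, t.prod, prod_mem_N ht, ?_, hrel⟩
  have h1 := len_mul_s_le hs (prod_mem_N ht)
  rw [← len_eq_of_rel (mul_mem (prod_mem_N ht) (P.subset hs)) hn hrel] at h1
  have h2 := len_le (isWordIn_prod (P := P) ht)
  simp at hlk
  omega

/-- Uniqueness in the Bruhat decomposition. -/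
theorem rel_of_cell_eq {n n' : G} (hn : n ∈ P.N) (hn' : n' ∈ P.N) (h : cell P n = cell P n') :
    n⁻¹ * n' ∈ P.B := by
  suffices H : ∀ k n n', n ∈ P.N → n' ∈ P.N → len P n = k → k ≤ len P n' → cell P n = cell P n' →
      n⁻¹ * n' ∈ P.B by
    rcases le_total (len P n) (len P n') with h' | h'
    · exact H _ n n' hn hn' rfl h' h
    · exact rel_symm (H _ n' n hn' hn rfl h' h.symm)
  clear h hn hn' n n'
  intro k
  induction k with
  | zero =>
    intro n n' hn hn' hk _ h
    have hB := (len_eq_zero hn).1 hk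
    exact mul_mem (inv_mem hB) (mem_B_of_mem_cell hB (h ▸ self_mem_cell n'))
  | succ k ih =>
    intro n n' hn hn' hk hk' h
    obtain ⟨s, hs, n₁, hn₁, hk₁, hrel⟩ := exists_left_factor hn hk
    have hmem : s * n₁ ∈ cell P n' := by
      rw [← h, cell_eq_of_rel hrel]; exact self_mem_cell _
    have hsn' := mul_mem (P.subset hs) hn'
    have hmem2 : n₁ ∈ cell P (s * n') ∪ cell P n' := by
      have h1 := left_mul_cell hs hn' hmem
      have hrel2 := rel_sq_mul hs hn₁
      rcases h1 with h1 | h1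
      · left
        have := mem_cell_right (inv_mem hrel2) h1
        rwa [mul_inv_rev, inv_inv, mul_inv_cancel_left] at this
      · right
        have := mem_cell_right (inv_mem hrel2) h1
        rwa [mul_inv_rev, inv_inv, mul_inv_cancel_left] at this
    rcases hmem2 with h1 | h1
    · have hle := le_len_smul hs hn'
      have hr := ih n₁ (s * n') hn₁ hsn' hk₁ (by omega) (cell_eq_of_mem h1)
      have e1 := rel_mul_left s hr
      exact rel_trans (rel_symm hrel) (rel_trans e1 (rel_symm (rel_sq_mul hs hn')))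
    · have hr := ih n₁ n' hn₁ hn' hk₁ (by omega) (cell_eq_of_mem h1)
      have := len_eq_of_rel hn₁ hn' hr
      omega

theorem rel_of_mem_cell {n n' g : G} (hn : n ∈ P.N) (hn' : n' ∈ P.N) (h : g ∈ cell P n)
    (h' : g ∈ cell P n') : n⁻¹ * n' ∈ P.B :=
  rel_of_cell_eq hn hn' ((cell_eq_of_mem h).symm.trans (cell_eq_of_mem h'))

/-- `s B n ⊆ B s n B` when multiplying by `s` does not shorten `n`. -/
theorem cell_mul_of_le {s n b : G} (hs : s ∈ P.S) (hn : n ∈ P.N) (hb : b ∈ P.B)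
    (hle : len P n ≤ len P (s * n)) : s * b * n ∈ cell P (s * n) := by
  induction hk : len P n generalizing n with
  | zero =>
    have hB := (len_eq_zero hn).1 hk
    refine mem_cell.2 ⟨1, one_mem _, n⁻¹ * b * n, mul_mem (mul_mem (inv_mem hB) hb) hB, ?_⟩
    group
  | succ k ih =>
    obtain ⟨t, ht, n₁, hn₁, hk₁, hrel⟩ := exists_right_factor hn hk
    have hsn₁ := mul_mem (P.subset hs) hn₁
    have hrel' : (s * n₁ * t)⁻¹ * (s * n) ∈ P.B := by
      rw [mul_assoc s n₁ t]; exact rel_mul_left s hrel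
    have hlen : len P (s * n) ≤ len P (s * n₁) + 1 := by
      rw [len_eq_of_rel (mul_mem hsn₁ (P.subset ht)) (mul_mem (P.subset hs) hn) hrel']
      exact len_mul_s_le ht hsn₁
    have h1 := ih hn₁ (by omega) hk₁
    rcases P.mul_mem_union s hs n hn b hb with h | h
    · exact h
    exfalso
    have h2 : s * b * n ∈ cell P (s * n) ∪ cell P (s * n₁) := by
      have := right_mul_cell ht hsn₁ h1
      have e : s * b * n = (s * b * n₁ * t) * ((n₁ * t)⁻¹ * n) := by group
      rw [e, cell_eq_of_rel hrel']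
      exact this.elim (fun h => Or.inl (mem_cell_right hrel h)) (fun h => Or.inr (mem_cell_right hrel h))
    rcases h2 with h2 | h2
    · have hr := rel_of_mem_cell hn (mul_mem (P.subset hs) hn) h h2
      have hs1 : n⁻¹ * (s * n) ∈ P.B := hr
      have := P.conj_mem n hn _ (Subgroup.mem_inf.2 ⟨hs1, mul_mem (inv_mem hn) (mul_mem (P.subset hs) hn)⟩)
      exact not_mem_B_of_mem_S hs (by simpa [mul_assoc] using this)
    · have hr := rel_of_mem_cell hn hsn₁ h h2
      have h3 := rel_trans (rel_symm (rel_mul_left s hr)) (rel_mul_left s (rel_refl n))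
      have h4 := rel_trans (rel_sq_mul hs hn₁) h3
      have := len_eq_of_rel hn₁ (mul_mem (P.subset hs) hn) h4
      omega

/-- If `s` shortens `n` then some `s b n` lies in `B n B`. -/
theorem exists_descent_elt {s n : G} (hs : s ∈ P.S) (hn : n ∈ P.N)
    (hlt : len P (s * n) ≤ len P n) : ∃ b ∈ P.B, s * b * n ∈ cell P n := by
  obtain ⟨b, hb, hbs⟩ := exists_conj_mem_cell hs
  obtain ⟨c, hc, c', hc', e⟩ := mem_cell.1 hbs
  have hsn := mul_mem (P.subset hs) hn
  have hrel := rel_sq_mul hs hn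
  have hcell : cell P (s * (s * n)) = cell P n := cell_eq_of_rel hrel
  have hle : len P (s * n) ≤ len P (s * (s * n)) := by
    rw [len_eq_of_rel hn (mul_mem (P.subset hs) hsn) hrel]; exact hlt
  refine ⟨b * (s * s), mul_mem hb (P.sq_mem s hs), ?_⟩
  have h1 := cell_mul_of_le hs hsn hc' hle
  rw [hcell] at h1
  have e2 : s * (b * (s * s)) * n = c * (s * c' * (s * n)) := by
    calc s * (b * (s * s)) * n = (s * b * s) * (s * n) := by group
      _ = (c * s * c') * (s * n) := by rw [e]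
      _ = _ := by group
  rw [e2]
  exact mem_cell_left hc h1

theorem len_smul_ne {s n : G} (hs : s ∈ P.S) (hn : n ∈ P.N) : len P (s * n) ≠ len P n := by
  intro h
  obtain ⟨b, hb, h1⟩ := exists_descent_elt hs hn h.le
  have h2 := cell_mul_of_le hs hn hb h.ge
  have hr := rel_of_mem_cell hn (mul_mem (P.subset hs) hn) h1 h2
  have := P.conj_mem n hn _ (Subgroup.mem_inf.2 ⟨hr, mul_mem (inv_mem hn) (mul_mem (P.subset hs) hn)⟩)
  exact not_mem_B_of_mem_S hs (by simpa [mul_assoc] using this)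

/-- The exchange condition. -/
theorem exchange {s : G} (hs : s ∈ P.S) (l : List G) (hl : ∀ x ∈ l, x ∈ P.S)
    (hred : len P l.prod = l.length) (hlt : len P (s * l.prod) < l.length) :
    ∃ i < l.length, (l.eraseIdx i).prod⁻¹ * (s * l.prod) ∈ P.B := by
  induction l using List.reverseRecOn with
  | nil => simp at hlt
  | append_singleton l t ih =>
    simp only [List.mem_append, List.mem_singleton] at hl
    have ht : t ∈ P.S := hl t (Or.inr rfl)
    have hl' : ∀ x ∈ l, x ∈ P.S := fun x hx => hl x (Or.inl hx)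
    simp only [List.prod_append, List.prod_singleton, List.length_append, List.length_singleton] at hred hlt ⊢
    have hn₁ := prod_mem_N hl'
    have hle := len_le (isWordIn_prod (P := P) hl')
    have hge := len_mul_s_le ht hn₁
    have hred₁ : len P l.prod = l.length := by omega
    by_cases hdes : len P (s * l.prod) < l.length
    · obtain ⟨i, hi, hrel⟩ := ih hl' hred₁ hdes
      refine ⟨i, by omega, ?_⟩
      rw [List.eraseIdx_append_of_lt_length hi, List.prod_append, List.prod_singleton, ← mul_assoc s]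
      have hsub : ∀ x ∈ l.eraseIdx i, x ∈ P.S := fun x hx => hl' x (List.mem_of_mem_eraseIdx hx)
      exact rel_mul_right (prod_mem_N hsub) (mul_mem (P.subset hs) hn₁) (P.subset ht) hrel
    · have hn := mul_mem hn₁ (P.subset ht)
      obtain ⟨b, hb, h1⟩ := exists_descent_elt hs hn (by omega)
      have hsn₁ := mul_mem (P.subset hs) hn₁
      have h2 := right_mul_cell ht hsn₁
        (cell_mul_of_le hs hn₁ hb (by have := len_smul_le hs hn₁; omega))
      rw [mul_assoc (s * b) l.prod t, mul_assoc s l.prod t] at h2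
      rcases h2 with h2 | h2
      · have hr := rel_of_mem_cell hn (mul_mem (P.subset hs) hn) h1 h2
        have := len_eq_of_rel hn (mul_mem (P.subset hs) hn) hr
        omega
      · have hr := rel_of_mem_cell hn hsn₁ h1 h2
        refine ⟨l.length, by omega, ?_⟩
        rw [List.eraseIdx_append_of_length_le le_rfl]
        simp only [Nat.sub_self, List.eraseIdx_cons_zero, List.append_nil]
        exact rel_trans (rel_sq_mul hs hn₁) (rel_mul_left s (rel_symm hr))

/-- Every word contains a reduced word for the same element as a sublist. -/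
theorem exists_reduced_sublist (l : List G) (hl : ∀ x ∈ l, x ∈ P.S) :
    ∃ l' : List G, l'.Sublist l ∧ l'.prod⁻¹ * l.prod ∈ P.B ∧ len P l.prod = l'.length := by
  induction l with
  | nil => exact ⟨[], List.Sublist.refl _, by simp, by simpa using (len_eq_zero P.N.one_mem).2 (one_mem P.B)⟩
  | cons s l ih =>
    simp only [List.mem_cons, forall_eq_or_imp] at hl
    obtain ⟨l', hsub, hrel, hlen⟩ := ih hl.2
    have hl' : ∀ x ∈ l', x ∈ P.S := fun x hx => hl.2 x (hsub.subset hx)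
    have hn := prod_mem_N hl.2
    have hn' := prod_mem_N hl'
    have hlen' : len P l'.prod = l'.length := by rw [← len_eq_of_rel hn' hn hrel]; exact hlen
    have hrel2 := rel_mul_left s hrel
    have hlen2 := len_eq_of_rel (mul_mem (P.subset hl.1) hn') (mul_mem (P.subset hl.1) hn) hrel2
    simp only [List.prod_cons]
    have h1 := len_smul_le hl.1 hn'
    by_cases hdes : len P (s * l'.prod) < l'.length
    · obtain ⟨i, hi, hr⟩ := exchange hl.1 l' hl' hlen' hdes
      refine ⟨l'.eraseIdx i, ((List.eraseIdx_sublist _ _).trans hsub).cons s, rel_trans hr hrel2, ?_⟩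
      have hsub' : ∀ x ∈ l'.eraseIdx i, x ∈ P.S := fun x hx => hl' x (List.mem_of_mem_eraseIdx hx)
      have h2 := le_len_smul hl.1 hn'
      have h3 := List.length_eraseIdx_of_lt hi
      rw [h3]
      omega
    · refine ⟨s :: l', hsub.cons_cons s, by simpa using hrel2, ?_⟩
      have h4 := len_smul_ne hl.1 hn'
      simp only [List.length_cons]
      omega

/-- An element of `⟨J⟩` has a reduced word with letters in `J`. -/
theorem exists_reduced_word_in {J : Set G} (hJ : J ⊆ P.S) {n : G} (hn : n ∈ Subgroup.closure J) :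
    ∃ l, IsWordIn P J n l ∧ l.length = len P n := by
  obtain ⟨l, hl⟩ := exists_word_in hJ hn
  obtain ⟨l', hsub, hrel, hlen⟩ := exists_reduced_sublist l (fun x hx => hJ (hl.1 x hx))
  refine ⟨l', ⟨fun x hx => hl.1 x (hsub.subset hx), rel_trans hrel hl.2⟩, ?_⟩
  rw [← hlen]
  exact (len_eq_of_rel (prod_mem_N fun x hx => hJ (hl.1 x hx)) (closure_le_N hJ hn) hl.2).symm

end CfsgLib.BNPairs
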