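import Cfsg.Agent.BNPairs.Parabolic

/-!
The Weyl group of a Tits system is a Coxeter group (Tits' solution of the word problem from the exchange
condition).
-/

set_option autoImplicit false
set_option linter.unusedSectionVars false
set_option linter.unusedVariables false
set_option linter.style.haveILetI false

namespace CfsgLib.BNPairs

/-- The alternating word `x, y, x, …` of length `k`. -/
def altList {α : Type*} : α → α → ℕ → List α
  | _, _, 0 => []
  | x, y, k + 1 => x :: altList y x k

theorem altList_succ_take {α : Type*} (x y : α) (k : ℕ) :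
    altList x y (k + 1) = x :: altList y x k := rfl

theorem map_altList {α β : Type*} (f : α → β) (x y : α) (k : ℕ) :
    (altList x y k).map f = altList (f x) (f y) k := by
  induction k generalizing x y with
  | zero => rfl
  | succ k ih => simp [altList, ih]

theorem take_altList {α : Type*} (x y : α) (k : ℕ) :
    (altList x y (k + 1)).take k = altList x y k := by
  induction k generalizing x y with
  | zero => rfl
  | succ k ih => rw [altList_succ_take x y (k + 1), List.take_succ_cons, ih, ← altList_succ_take]

theorem altList_prod {H : Type*} [Group H] (k : ℕ) :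
    ∀ x y : H, x * x = 1 → y * y = 1 →
      (altList x y k).prod * ((altList y x k).prod)⁻¹ = (x * y) ^ k := by
  induction k with
  | zero => intro x y _ _; simp [altList]
  | succ k ih =>
    intro x y hx hy
    simp only [altList, List.prod_cons, mul_inv_rev]
    rw [inv_eq_of_mul_eq_one_left hy]
    rw [show x * (altList y x k).prod * ((altList x y k).prod⁻¹ * y) =
      x * ((altList y x k).prod * (altList x y k).prod⁻¹) * y by group, ih y x hy hx]
    clear ih
    induction k with
    | zero => simp
    | succ k ih =>
      rw [pow_succ (x * y) (k + 1), ← ih, pow_succ (y * x) k]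
      simp only [mul_assoc]

variable {G : Type*} [Group G] (P : Cfsg.BNPair G)
  [hN : ((P.B ⊓ P.N).subgroupOf P.N).Normal]

/-- The Weyl group of the Tits system. -/
abbrev Weyl : Type _ := P.N ⧸ (P.B ⊓ P.N).subgroupOf P.N

/-- The distinguished involution of the Weyl group. -/
def weylGen (s : P.S) : Weyl P := QuotientGroup.mk (⟨(s : G), P.subset s.2⟩ : P.N)

variable {P}

theorem mk_eq_mk_iff {n n' : P.N} :
    (QuotientGroup.mk n : Weyl P) = QuotientGroup.mk n' ↔ (n : G)⁻¹ * n' ∈ P.B := by
  rw [QuotientGroup.eq, Subgroup.mem_subgroupOf, Subgroup.mem_inf]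
  exact ⟨fun h => h.1, fun h => ⟨h, (n⁻¹ * n').2⟩⟩

theorem weylGen_mul_self (s : P.S) : weylGen P s * weylGen P s = 1 := by
  rw [weylGen, ← QuotientGroup.mk_mul, QuotientGroup.eq_one_iff, Subgroup.mem_subgroupOf]
  exact Subgroup.mem_inf.2 ⟨P.sq_mem _ s.2, mul_mem (P.subset s.2) (P.subset s.2)⟩

theorem weylGen_inv (s : P.S) : (weylGen P s)⁻¹ = weylGen P s :=
  inv_eq_of_mul_eq_one_right (weylGen_mul_self s)

variable (P)

/-- The Coxeter matrix of the Weyl group. -/
noncomputable def weylMatrix : CoxeterMatrix P.S where
  M := fun s t => orderOf (weylGen P s * weylGen P t)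
  isSymm := by
    ext s t
    show orderOf (weylGen P t * weylGen P s) = orderOf (weylGen P s * weylGen P t)
    rw [show weylGen P t * weylGen P s = (weylGen P s)⁻¹ * (weylGen P s * weylGen P t) * (weylGen P s)⁻¹⁻¹ by group,
      ← MulAut.conj_apply, MulEquiv.orderOf_eq]
  diagonal s := by simp [weylGen_mul_self]
  off_diagonal s t hst := by
    rw [Ne, orderOf_eq_one_iff]
    intro h
    apply hst
    have h1 : weylGen P s = weylGen P t := by
      rw [← weylGen_inv t]; exact eq_inv_of_mul_eq_one_left h
    exact Subtype.ext (P.inj _ s.2 _ t.2 ((mk_eq_mk_iff).1 h1))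

theorem weylGen_liftable : (weylMatrix P).IsLiftable (weylGen P) := fun s t =>
  pow_orderOf_eq_one _

/-- The canonical map from the Coxeter group onto the Weyl group. -/
noncomputable def weylHom : (weylMatrix P).Group →* Weyl P :=
  (weylMatrix P).toCoxeterSystem.lift ⟨weylGen P, weylGen_liftable P⟩

theorem weylHom_simple (s : P.S) :
    weylHom P ((weylMatrix P).toCoxeterSystem.simple s) = weylGen P s :=
  (weylMatrix P).toCoxeterSystem.lift_apply_simple (weylGen_liftable P) s

variable {P}

/-- The tautological Coxeter system on the Coxeter group of the Weyl matrix. -/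
noncomputable abbrev coxSys (P : Cfsg.BNPair G) [((P.B ⊓ P.N).subgroupOf P.N).Normal] :
    CoxeterSystem (weylMatrix P) (weylMatrix P).Group := (weylMatrix P).toCoxeterSystem

/-- The image in `N` of a word. -/
def repWord (l : List P.S) : G := (l.map Subtype.val).prod

theorem repWord_mem (l : List P.S) : repWord l ∈ P.N :=
  prod_mem_N fun x hx => by obtain ⟨y, -, rfl⟩ := List.mem_map.1 hx; exact y.2

/-- A word is reduced. -/
def IsRed (l : List P.S) : Prop := len P (repWord l) = l.length

theorem mk_repWord (l : List P.S) :
    (QuotientGroup.mk (⟨repWord l, repWord_mem l⟩ : P.N) : Weyl P) = (l.map (weylGen P)).prod := by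
  induction l with
  | nil => rfl
  | cons s l ih =>
    rw [List.map_cons, List.prod_cons, ← ih, weylGen, ← QuotientGroup.mk_mul]
    rfl

theorem wordProd_weyl (l : List P.S) :
    weylHom P ((coxSys P).wordProd l) = (l.map (weylGen P)).prod := by
  rw [CoxeterSystem.wordProd, map_list_prod, List.map_map]
  congr 1
  exact List.map_congr_left fun s _ => weylHom_simple P s

theorem len_eq_of_weyl_eq {a b : List P.S}
    (h : (a.map (weylGen P)).prod = (b.map (weylGen P)).prod) :
    len P (repWord a) = len P (repWord b) := by
  rw [← mk_repWord, ← mk_repWord, mk_eq_mk_iff] at h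
  exact (len_eq_of_rel (repWord_mem a) (repWord_mem b) h).symm

theorem len_repWord_le (l : List P.S) : len P (repWord l) ≤ l.length := by
  refine le_trans (len_le (isWordIn_prod (P := P) fun x hx => ?_)) (by rw [List.length_map])
  obtain ⟨y, -, rfl⟩ := List.mem_map.1 hx
  exact y.2

theorem isRed_tail {s : P.S} {l : List P.S} (h : IsRed (s :: l)) : IsRed l := by
  have h1 := len_smul_le s.2 (repWord_mem l)
  have h2 : repWord (s :: l) = (s : G) * repWord l := by simp [repWord]
  rw [IsRed, h2, List.length_cons] at h
  have h3 := len_repWord_le l
  show len P (repWord l) = l.length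
  omega

theorem isRed_init {t : P.S} {l : List P.S} (h : IsRed (l ++ [t])) : IsRed l := by
  have h1 := len_mul_s_le t.2 (repWord_mem l)
  have h2 : repWord (l ++ [t]) = repWord l * (t : G) := by simp [repWord]
  rw [IsRed, h2, List.length_append, List.length_singleton] at h
  have h3 := len_repWord_le l
  show len P (repWord l) = l.length
  omega

theorem exists_exchange {s : P.S} {l : List P.S} (hl : IsRed l)
    (hlt : len P (repWord (s :: l)) < l.length) :
    ∃ i < l.length, ((l.eraseIdx i).map (weylGen P)).prod = weylGen P s * (l.map (weylGen P)).prod := by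
  have h2 : repWord (s :: l) = (s : G) * repWord l := by simp [repWord]
  rw [h2] at hlt
  obtain ⟨i, hi, h⟩ := exchange s.2 (l.map Subtype.val)
    (fun x hx => by obtain ⟨y, -, rfl⟩ := List.mem_map.1 hx; exact y.2)
    (by rw [List.length_map]; exact hl) (by rw [List.length_map]; exact hlt)
  rw [List.length_map] at hi
  refine ⟨i, hi, ?_⟩
  have e : (l.map Subtype.val).eraseIdx i = (l.eraseIdx i).map Subtype.val := by
    rw [List.eraseIdx_eq_take_drop_succ, List.eraseIdx_eq_take_drop_succ, List.map_append,
      List.map_take, List.map_drop]
  rw [← mk_repWord, ← mk_repWord, weylGen, ← QuotientGroup.mk_mul, mk_eq_mk_iff]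
  rw [e] at h
  exact h

/-- Two reduced words are a counterexample to Tits' theorem. -/
def Bad (k : ℕ) (a b : List P.S) : Prop :=
  a.length = k ∧ b.length = k ∧ IsRed a ∧ IsRed b ∧
    (a.map (weylGen P)).prod = (b.map (weylGen P)).prod ∧ (coxSys P).wordProd a ≠ (coxSys P).wordProd b

theorem not_bad (k : ℕ) : ∀ a b : List P.S, ¬ Bad k a b := by
  induction k with
  | zero =>
    rintro a b ⟨ha, hb, -, -, -, hne⟩
    rw [List.length_eq_zero_iff] at ha hb
    exact hne (ha ▸ hb ▸ rfl)
  | succ k ih =>
    -- equal heads
    have heads : ∀ s (a b : List P.S), (s :: a).length = k + 1 → (s :: b).length = k + 1 →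
        IsRed (s :: a) → IsRed (s :: b) →
        ((s :: a).map (weylGen P)).prod = ((s :: b).map (weylGen P)).prod →
        (coxSys P).wordProd (s :: a) = (coxSys P).wordProd (s :: b) := by
      intro s a b ha hb hra hrb h
      simp only [List.map_cons, List.prod_cons, mul_right_inj] at h
      simp only [List.length_cons, Nat.add_right_cancel_iff] at ha hb
      by_contra hne
      refine ih a b ⟨ha, hb, isRed_tail hra, isRed_tail hrb, h, fun e => hne ?_⟩
      rw [CoxeterSystem.wordProd_cons, CoxeterSystem.wordProd_cons, e]
    have lasts : ∀ u (a b : List P.S), (a ++ [u]).length = k + 1 → (b ++ [u]).length = k + 1 →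
        IsRed (a ++ [u]) → IsRed (b ++ [u]) →
        ((a ++ [u]).map (weylGen P)).prod = ((b ++ [u]).map (weylGen P)).prod →
        (coxSys P).wordProd (a ++ [u]) = (coxSys P).wordProd (b ++ [u]) := by
      intro u a b ha hb hra hrb h
      simp only [List.map_append, List.map_cons, List.map_nil, List.prod_append,
        List.prod_singleton, mul_left_inj] at h
      simp only [List.length_append, List.length_singleton, Nat.add_right_cancel_iff] at ha hb
      by_contra hne
      refine ih a b ⟨ha, hb, isRed_init hra, isRed_init hrb, h, fun e => hne ?_⟩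
      rw [CoxeterSystem.wordProd_append, CoxeterSystem.wordProd_append, e]
    -- the rotation step
    have step : ∀ (s t : P.S) (a b : List P.S), Bad (k + 1) (s :: a) (t :: b) →
        Bad (k + 1) (t :: (s :: a).dropLast) (s :: a) := by
      rintro s t a b ⟨ha, hb, hra, hrb, hW, hne⟩
      set A : List P.S := s :: a with hA
      have hlt : len P (repWord (t :: A)) < A.length := by
        have e : ((t :: A).map (weylGen P)).prod = (b.map (weylGen P)).prod := by
          rw [List.map_cons, List.prod_cons, hW, List.map_cons, List.prod_cons, ← mul_assoc,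
            weylGen_mul_self, one_mul]
        rw [len_eq_of_weyl_eq e]
        have := len_repWord_le b
        simp only [List.length_cons] at hb
        omega
      obtain ⟨i, hi, hdel⟩ := exists_exchange hra hlt
      set c := t :: A.eraseIdx i with hc
      have hclen : c.length = k + 1 := by
        rw [hc, List.length_cons, List.length_eraseIdx_of_lt hi, ha]
        omega
      have hcW : (c.map (weylGen P)).prod = (A.map (weylGen P)).prod := by
        rw [hc, List.map_cons, List.prod_cons, hdel, ← mul_assoc, weylGen_mul_self, one_mul]
      have hcr : IsRed c := by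
        show len P (repWord c) = c.length
        rw [len_eq_of_weyl_eq hcW, hra, ha, hclen]
      have hcb : (coxSys P).wordProd c = (coxSys P).wordProd (t :: b) :=
        heads t _ b hclen hb hcr hrb (hcW.trans hW)
      have hik : i + 1 = A.length := by
        by_contra hik
        obtain ⟨A', u, hAu⟩ : ∃ A' u, A = A' ++ [u] := by
          rcases List.eq_nil_or_concat' A with h | ⟨A', u, h⟩
          · simp [hA] at h
          · exact ⟨A', u, h⟩
        have hi' : i < A'.length := by
          rw [hAu, List.length_append, List.length_singleton] at hi hik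
          omega
        have e : c = (t :: A'.eraseIdx i) ++ [u] := by
          rw [hc, hAu, List.eraseIdx_append_of_lt_length hi', List.cons_append]
        rw [e] at hclen hcr hcW hcb
        rw [hAu] at ha hra hcW hne
        exact hne ((lasts u A' _ ha hclen hra hcr hcW.symm).trans hcb)
      have e : A.eraseIdx i = A.dropLast := by
        rw [show i = A.length - 1 by omega]
        exact List.eraseIdx_length_sub_one
      rw [← e, ← hc]
      exact ⟨hclen, ha, hcr, hra, hcW, fun h => hne (h.symm.trans hcb)⟩
    intro a₀ b₀ hbad
    have Q : ∀ j, j ≤ k → ∃ (s t : P.S) (a b : List P.S),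
        Bad (k + 1) (s :: a) (t :: b) ∧ a.take j = altList t s j := by
      intro j hj
      induction j with
      | zero =>
        rcases a₀ with _ | ⟨s, a⟩
        · exact absurd hbad.1 (by simp)
        rcases b₀ with _ | ⟨t, b⟩
        · exact absurd hbad.2.1 (by simp)
        exact ⟨s, t, a, b, hbad, by simp [altList]⟩
      | succ j ihj =>
        obtain ⟨s, t, a, b, h, htake⟩ := ihj (by omega)
        refine ⟨t, s, (s :: a).dropLast, a, step s t a b h, ?_⟩
        have hlen : a.length = k := by have := h.1; simpa using this
        rw [List.dropLast_eq_take, List.take_take, List.length_cons, hlen, Nat.add_sub_cancel,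
          min_eq_left hj, List.take_succ_cons, htake, altList_succ_take]
    obtain ⟨s, t, a, b, h, htake⟩ := Q k le_rfl
    have hlen : a.length = k := by have := h.1; simpa using this
    have haa : s :: a = altList s t (k + 1) := by
      rw [← hlen, List.take_length] at htake
      rw [altList_succ_take, htake, hlen]
    have h2 := step s t a b h
    have hcc : t :: (s :: a).dropLast = altList t s (k + 1) := by
      rw [haa, List.dropLast_eq_take, altList_succ_take t s]
      congr 1
      have hl' : (altList s t (k + 1)).length = k + 1 := by rw [← haa]; simp [hlen]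
      rw [hl', Nat.add_sub_cancel, take_altList]
    obtain ⟨-, -, -, -, hW, hC⟩ := h2
    rw [hcc, haa] at hW hC
    apply hC
    rw [map_altList, map_altList] at hW
    have hp := altList_prod (k + 1) _ _ (weylGen_mul_self t) (weylGen_mul_self s)
    rw [hW, mul_inv_cancel] at hp
    have hp' := altList_prod (k + 1) ((coxSys P).simple t) ((coxSys P).simple s)
      ((coxSys P).simple_mul_simple_self t) ((coxSys P).simple_mul_simple_self s)
    obtain ⟨d, hd⟩ := orderOf_dvd_of_pow_eq_one hp.symm
    have hd' : k + 1 = (weylMatrix P).M t s * d := hd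
    rw [hd', pow_mul, CoxeterSystem.simple_mul_simple_pow, one_pow, mul_inv_eq_one] at hp'
    rw [CoxeterSystem.wordProd, CoxeterSystem.wordProd, map_altList, map_altList, hd']
    exact hp'

theorem exists_red_word (c : (weylMatrix P).Group) :
    ∃ l : List P.S, IsRed l ∧ (coxSys P).wordProd l = c := by
  induction c using (coxSys P).simple_induction_left with
  | one => exact ⟨[], by simpa [IsRed, repWord] using (len_eq_zero P.N.one_mem).2 (one_mem P.B),
      CoxeterSystem.wordProd_nil _⟩
  | mul_simple_left c s ih =>
    obtain ⟨l, hl, rfl⟩ := ih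
    by_cases hlt : len P (repWord (s :: l)) < l.length
    · obtain ⟨i, hi, hdel⟩ := exists_exchange hl hlt
      set d := l.eraseIdx i with hd
      have hdlen : d.length = l.length - 1 := List.length_eraseIdx_of_lt hi
      have hW : ((s :: d).map (weylGen P)).prod = (l.map (weylGen P)).prod := by
        rw [List.map_cons, List.prod_cons, hdel, ← mul_assoc, weylGen_mul_self, one_mul]
      have hsd : (s :: d).length = l.length := by rw [List.length_cons, hdlen]; omega
      have hred : IsRed (s :: d) := by
        show len P _ = _
        rw [len_eq_of_weyl_eq hW, hl, hsd]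
      refine ⟨d, isRed_tail hred, ?_⟩
      have heq : (coxSys P).wordProd (s :: d) = (coxSys P).wordProd l := by
        by_contra hne
        exact not_bad _ _ _ ⟨hsd, rfl, hred, hl, hW, hne⟩
      rw [← heq, CoxeterSystem.wordProd_cons, ← mul_assoc, CoxeterSystem.simple_mul_simple_self,
        one_mul]
    · refine ⟨s :: l, ?_, CoxeterSystem.wordProd_cons _ _ _⟩
      have h1 := len_smul_le s.2 (repWord_mem l)
      have h2 : repWord (s :: l) = (s : G) * repWord l := by simp [repWord]
      have h3 := len_smul_ne s.2 (repWord_mem l)
      have hl' : len P (repWord l) = l.length := hl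
      show len P (repWord (s :: l)) = (s :: l).length
      rw [List.length_cons]
      rw [h2] at hlt ⊢
      omega

theorem weylHom_bijective : Function.Bijective (weylHom P) := by
  constructor
  · rw [injective_iff_map_eq_one]
    intro c hc
    obtain ⟨l, hl, rfl⟩ := exists_red_word c
    rw [wordProd_weyl] at hc
    have h0 : len P (repWord l) = 0 := by
      rw [len_eq_of_weyl_eq (b := []) (by simpa using hc)]
      simpa [repWord] using (len_eq_zero P.N.one_mem).2 (one_mem P.B)
    rw [hl, List.length_eq_zero_iff] at h0
    subst h0
    exact CoxeterSystem.wordProd_nil _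
  · intro w
    obtain ⟨⟨n, hn⟩, rfl⟩ := QuotientGroup.mk_surjective w
    obtain ⟨l, hl, hl'⟩ := exists_word hn
    refine ⟨(coxSys P).wordProd (l.attach.map fun x => (⟨x.1, hl x.1 x.2⟩ : P.S)), ?_⟩
    rw [wordProd_weyl, ← mk_repWord, mk_eq_mk_iff]
    simpa [repWord, List.map_map, Function.comp_def, List.attach_map_val] using hl'

variable (P)

/-- The Coxeter system on the Weyl group. -/
noncomputable def weylSystem : CoxeterSystem (weylMatrix P) (Weyl P) :=
  ⟨(MulEquiv.ofBijective (weylHom P) (weylHom_bijective (P := P))).symm⟩

theorem weylSystem_simple (s : P.S) : (weylSystem P).simple s = weylGen P s :=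
  weylHom_simple P s

end CfsgLib.BNPairs
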