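import Cfsg.Agent.BNPairs.Basic

/-!
Parabolic subgroups of a Tits system: subgroups containing `B`, self-normalisation, the lattice,
`B ∪ B s B`, rank one, and the simplicity criterion.
-/

set_option autoImplicit false
set_option linter.unusedSectionVars false
set_option linter.style.haveILetI false

namespace CfsgLib.BNPairs

variable {G : Type*} [Group G] {P : Cfsg.BNPair G}

theorem mem_parabolic_of_mem_cell {J : Set G} {g n : G} (hn : n ∈ P.parabolic J)
    (h : g ∈ cell P n) : g ∈ P.parabolic J := by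
  obtain ⟨b, hb, b', hb', rfl⟩ := mem_cell.1 h
  exact mul_mem (mul_mem (Subgroup.mem_sup_left hb) hn) (Subgroup.mem_sup_left hb')

/-- `B ⊔ n B n⁻¹` contains `n`. -/
theorem mem_sup_conj {n : G} (hn : n ∈ P.N) : n ∈ P.B ⊔ P.B.map (MulAut.conj n).toMonoidHom := by
  induction hk : len P n generalizing n with
  | zero => exact Subgroup.mem_sup_left ((len_eq_zero hn).1 hk)
  | succ k ih =>
    set M := P.B ⊔ P.B.map (MulAut.conj n).toMonoidHom with hM
    have hconj : ∀ b ∈ P.B, n * b * n⁻¹ ∈ M := fun b hb => Subgroup.mem_sup_right ⟨b, hb, rfl⟩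
    obtain ⟨s, hs, n₁, hn₁, hk₁, hrel⟩ := exists_left_factor hn hk
    have hsn : len P (s * n) ≤ len P n := by
      rw [len_eq_of_rel (mul_mem (P.subset hs) (mul_mem (P.subset hs) hn₁)) (mul_mem (P.subset hs) hn)
        (rel_mul_left s hrel), len_eq_of_rel hn₁ (mul_mem (P.subset hs) (mul_mem (P.subset hs) hn₁))
        (rel_sq_mul hs hn₁)]
      omega
    obtain ⟨b, hb, h⟩ := exists_descent_elt hs hn hsn
    obtain ⟨c, hc, c', hc', e⟩ := mem_cell.1 h
    have hsM : s ∈ M := by
      rw [show s = c * (n * c' * n⁻¹) * b⁻¹ by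
        calc s = (s * b * n) * n⁻¹ * b⁻¹ := by group
          _ = (c * n * c') * n⁻¹ * b⁻¹ := by rw [e]
          _ = _ := by group]
      exact mul_mem (mul_mem (Subgroup.mem_sup_left hc) (hconj c' hc'))
        (Subgroup.mem_sup_left (inv_mem hb))
    have hle : P.B ⊔ P.B.map (MulAut.conj n₁).toMonoidHom ≤ M := by
      refine sup_le le_sup_left ?_
      rintro _ ⟨d, hd, rfl⟩
      show n₁ * d * n₁⁻¹ ∈ M
      set t := (s * n₁)⁻¹ * n with ht
      have ht' : t ∈ P.B := hrel
      rw [show n₁ * d * n₁⁻¹ = s⁻¹ * (n * (t⁻¹ * d * t) * n⁻¹) * s by rw [ht]; group]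
      exact mul_mem (mul_mem (inv_mem hsM) (hconj _ (mul_mem (mul_mem (inv_mem ht') hd) ht'))) hsM
    have h1 : n = s * n₁ * ((s * n₁)⁻¹ * n) := by group
    rw [h1]
    exact mul_mem (mul_mem hsM (hle (ih hn₁ hk₁))) (Subgroup.mem_sup_left hrel)

/-- A subgroup containing `B` and `n` contains every letter of every reduced word for `n`. -/
theorem mem_of_reduced_word {M : Subgroup G} (hM : P.B ≤ M) (l : List G)
    (hl : ∀ x ∈ l, x ∈ P.S) (hred : len P l.prod = l.length) (hmem : l.prod ∈ M) :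
    ∀ x ∈ l, x ∈ M := by
  induction l with
  | nil => simp
  | cons s l ih =>
    simp only [List.mem_cons, forall_eq_or_imp] at hl ⊢
    simp only [List.prod_cons, List.length_cons] at hred hmem
    have hn₁ := prod_mem_N hl.2
    have h1 := len_le (isWordIn_prod (P := P) hl.2)
    have h2 := len_smul_le hl.1 hn₁
    have hn := mul_mem (P.subset hl.1) hn₁
    have hdes : len P (s * (s * l.prod)) ≤ len P (s * l.prod) := by
      rw [len_eq_of_rel hn₁ (mul_mem (P.subset hl.1) hn) (rel_sq_mul hl.1 hn₁)]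
      omega
    obtain ⟨b, hb, h⟩ := exists_descent_elt hl.1 hn hdes
    obtain ⟨c, hc, c', hc', e⟩ := mem_cell.1 h
    have hsM : s ∈ M := by
      have hin : s * b * (s * l.prod) ∈ M := e ▸ mul_mem (mul_mem (hM hc) hmem) (hM hc')
      rw [show s = (s * b * (s * l.prod)) * (s * l.prod)⁻¹ * b⁻¹ by group]
      exact mul_mem (mul_mem hin (inv_mem hmem)) (inv_mem (hM hb))
    refine ⟨hsM, ih hl.2 (by omega) ?_⟩
    rw [show l.prod = s⁻¹ * (s * l.prod) by group]
    exact mul_mem (inv_mem hsM) hmem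

/-- Every subgroup containing `B` is parabolic. -/
theorem eq_parabolic {M : Subgroup G} (hM : P.B ≤ M) :
    M = P.parabolic (P.S ∩ (M : Set G)) := by
  refine le_antisymm (fun g hg => ?_) (sup_le hM ((Subgroup.closure_le M).2 Set.inter_subset_right))
  obtain ⟨n, hn, h⟩ := bruhat (P := P) g
  obtain ⟨l, hl, hlk⟩ := exists_reduced hn
  obtain ⟨b, hb, b', hb', e⟩ := mem_cell.1 h
  have hnM : n ∈ M := by
    rw [show n = b⁻¹ * g * b'⁻¹ by rw [e]; group]
    exact mul_mem (mul_mem (inv_mem (hM hb)) hg) (inv_mem (hM hb'))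
  have hred : len P l.prod = l.length := by
    rw [← len_eq_of_rel (prod_mem_N hl.1) hn hl.2, hlk]
  have hpM : l.prod ∈ M := by
    rw [show l.prod = n * (l.prod⁻¹ * n)⁻¹ by group]
    exact mul_mem hnM (inv_mem (hM hl.2))
  have hlet := mem_of_reduced_word hM l hl.1 hred hpM
  refine mem_parabolic_of_mem_cell ?_ h
  rw [show n = l.prod * (l.prod⁻¹ * n) by group]
  exact mul_mem (Subgroup.mem_sup_right (prod_mem_closure fun x hx => ⟨hl.1 x hx, hlet x hx⟩))
    (Subgroup.mem_sup_left hl.2)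

theorem len_of_mem_S {s : G} (hs : s ∈ P.S) : len P s = 1 := by
  have h1 := len_le (isWordIn_prod (P := P) (J := P.S) (l := [s]) (by simpa using hs))
  simp at h1
  have h2 : len P s ≠ 0 := fun h => not_mem_B_of_mem_S hs ((len_eq_zero (P.subset hs)).1 h)
  omega

/-- `S ∩ P_J = J`. -/
theorem S_inter_parabolic {J : Set G} (hJ : J ⊆ P.S) : P.S ∩ (P.parabolic J : Set G) = J := by
  refine Set.Subset.antisymm ?_ fun s hs => ⟨hJ hs, Subgroup.mem_sup_right (Subgroup.subset_closure hs)⟩
  rintro s ⟨hs, hsP⟩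
  obtain ⟨n, hn, h⟩ := (bruhat_parabolic hJ s).1 hsP
  have hnN := closure_le_N hJ hn
  have hrel := rel_of_mem_cell (P.subset hs) hnN (self_mem_cell s) h
  obtain ⟨l, hl, hlen⟩ := exists_reduced_word_in hJ hn
  rw [len_eq_of_rel (P.subset hs) hnN hrel, len_of_mem_S hs, List.length_eq_one_iff] at hlen
  obtain ⟨x, rfl⟩ := hlen
  have hx : x ∈ J := hl.1 x List.mem_cons_self
  have h1 : x⁻¹ * s ∈ P.B := by
    have := rel_trans hl.2 (rel_symm hrel)
    simpa using this
  rwa [← P.inj x (hJ hx) s hs h1]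

theorem mem_parabolic_of_conj_le {J : Set G} {n : G} (hn : n ∈ P.N)
    (h : P.B.map (MulAut.conj n).toMonoidHom ≤ P.parabolic J) : n ∈ P.parabolic J :=
  sup_le (c := P.parabolic J) le_sup_left h (mem_sup_conj hn)

/-- Conjugate parabolic subgroups: the conjugating element lies in the target. -/
theorem mem_of_map_conj_eq {J K : Set G} {g : G}
    (h : (P.parabolic J).map (MulAut.conj g).toMonoidHom = P.parabolic K) :
    P.parabolic J = P.parabolic K ∧ g ∈ P.parabolic K := by
  obtain ⟨n, hn, hg⟩ := bruhat (P := P) g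
  obtain ⟨b, hb, b', hb', rfl⟩ := mem_cell.1 hg
  have hbK : b ∈ P.parabolic K := Subgroup.mem_sup_left hb
  have hb'J : b' ∈ P.parabolic J := Subgroup.mem_sup_left hb'
  have hconj : ∀ x ∈ P.parabolic J, n * x * n⁻¹ ∈ P.parabolic K := by
    intro x hx
    have hmem : b'⁻¹ * x * b' ∈ P.parabolic J := mul_mem (mul_mem (inv_mem hb'J) hx) hb'J
    have h1 : b * n * b' * (b'⁻¹ * x * b') * (b * n * b')⁻¹ ∈ P.parabolic K := h ▸ ⟨_, hmem, rfl⟩
    rw [show n * x * n⁻¹ = b⁻¹ * (b * n * b' * (b'⁻¹ * x * b') * (b * n * b')⁻¹) * b by group]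
    exact mul_mem (mul_mem (inv_mem hbK) h1) hbK
  have hnK : n ∈ P.parabolic K := by
    refine mem_parabolic_of_conj_le hn ?_
    rintro _ ⟨x, hx, rfl⟩
    exact hconj x (Subgroup.mem_sup_left hx)
  have hgK : b * n * b' ∈ P.parabolic K := mul_mem (mul_mem hbK hnK) (Subgroup.mem_sup_left hb')
  refine ⟨?_, hgK⟩
  refine le_antisymm (fun x hx => ?_) (fun x hx => ?_)
  · have h1 : b * n * b' * x * (b * n * b')⁻¹ ∈ P.parabolic K := h ▸ ⟨x, hx, rfl⟩
    rw [show x = (b * n * b')⁻¹ * (b * n * b' * x * (b * n * b')⁻¹) * (b * n * b') by group]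
    exact mul_mem (mul_mem (inv_mem hgK) h1) hgK
  · have h1 : b * n * b' * x * (b * n * b')⁻¹ ∈ P.parabolic K :=
      mul_mem (mul_mem hgK hx) (inv_mem hgK)
    rw [← h] at h1
    obtain ⟨y, hy, e⟩ := h1
    have : y = x := (MulAut.conj (b * n * b')).injective e
    exact this ▸ hy

theorem normalizer_parabolic (J : Set G) :
    Subgroup.normalizer (P.parabolic J : Set G) = P.parabolic J := by
  refine le_antisymm (fun g hg => ?_) Subgroup.le_normalizer
  refine (mem_of_map_conj_eq (J := J) (K := J) ?_).2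
  ext x
  constructor
  · rintro ⟨y, hy, rfl⟩; exact (Subgroup.mem_normalizer_iff.1 hg y).1 hy
  · intro hx
    refine ⟨g⁻¹ * x * g, (Subgroup.mem_normalizer_iff.1 hg _).2 ?_, ?_⟩
    · simpa [mul_assoc] using hx
    · show g * (g⁻¹ * x * g) * g⁻¹ = x
      group

/-- In rank one `G = B ∪ B s B`. -/
theorem mem_B_or_cell {s : G} (hS : P.S = {s}) (g : G) : g ∈ P.B ∨ g ∈ cell P s := by
  have hs : s ∈ P.S := hS ▸ rfl
  obtain ⟨n, hn, h⟩ := bruhat (P := P) g
  obtain ⟨l, hl, -⟩ := exists_reduced hn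
  obtain ⟨l', hsub, hrel, hlen⟩ := exists_reduced_sublist l hl.1
  rcases Nat.lt_or_ge l'.length 2 with h2 | h2
  · interval_cases hll : l'.length
    · rw [List.length_eq_zero_iff] at hll
      subst hll
      left
      refine mem_B_of_mem_cell ?_ h
      have := rel_trans hrel hl.2
      simpa using this
    · rw [List.length_eq_one_iff] at hll
      obtain ⟨x, rfl⟩ := hll
      right
      have hx : x ∈ P.S := hl.1 x (hsub.subset List.mem_cons_self)
      rw [hS, Set.mem_singleton_iff] at hx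
      subst hx
      have := rel_trans hrel hl.2
      rw [List.prod_singleton] at this
      rwa [cell_eq_of_rel this] at h
  · exfalso
    rcases l' with _ | ⟨x, _ | ⟨y, r⟩⟩
    · simp at h2
    · simp at h2
    have hmem : ∀ z ∈ x :: y :: r, z = s := fun z hz => by
      simpa [hS] using hl.1 z (hsub.subset hz)
    have hr : ∀ z ∈ r, z ∈ P.S := fun z hz =>
      hl.1 z (hsub.subset (List.mem_cons_of_mem _ (List.mem_cons_of_mem _ hz)))
    have hl'S : ∀ z ∈ x :: y :: r, z ∈ P.S := fun z hz => hl.1 z (hsub.subset hz)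
    rw [hmem x (by simp), hmem y (by simp)] at hrel hlen hl'S
    have h3 := rel_trans (rel_sq_mul (n := r.prod) hs (prod_mem_N hr))
      (show (s * (s * r.prod))⁻¹ * l.prod ∈ P.B by simpa [mul_assoc] using hrel)
    have h4 := len_eq_of_rel (prod_mem_N hr) (prod_mem_N hl.1) h3
    have h5 := len_le (isWordIn_prod (P := P) hr)
    simp at hlen
    omega

theorem exists_singleton_of_rank_one (h : P.rank = 1) : ∃ s, P.S = {s} := by
  rw [Cfsg.BNPair.rank, Nat.card_coe_set_eq, Set.ncard_eq_one] at h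
  exact h

end CfsgLib.BNPairs
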